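import Groth.Prelude.Def_AlgSt4
import Groth.Prelude.Def_W4c2isonaturalstkIso

universe u

open CategoryTheory AlgebraicGeometry

noncomputable section

namespace Groth.Agent.H14.ClsPoints

variable {S : Scheme.{u}} {𝒳 𝒴 : AlgSt.Cat S}

/-- The base scheme of a field-valued point. -/
abbrev base (p : AlgSt.FPt 𝒳) : Over S := Over.mk p.str

/-- The class of the object of a field-valued point. -/
def ptCls (p : AlgSt.FPt 𝒳) : IsoNat.IsoCl 𝒳 (base p) := IsoNat.cls (Functor.Fiber.mk p.lies)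

/-- The field-valued point with the same field and a chosen representative of a class. -/
def repPt (p : AlgSt.FPt 𝒳) (c : IsoNat.IsoCl 𝒴 (base p)) : AlgSt.FPt 𝒴 :=
  { K := p.K, str := p.str, obj := c.out.1, lies := c.out.2 }

theorem cls_out (T : Over S) (c : IsoNat.IsoCl 𝒳 T) : IsoNat.cls c.out = c := Quotient.out_eq c

/-- A morphism between representatives of one class. -/
theorem nonempty_hom_of_cls_eq {T : Over S} {x y : 𝒳.p.Fiber T} (h : IsoNat.cls x = IsoNat.cls y) :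
    Nonempty (x ≅ y) :=
  Quotient.exact h

theorem mk_repPt_ptCls (p : AlgSt.FPt 𝒳) :
    AlgSt.Points.mk (repPt p (ptCls p)) = AlgSt.Points.mk p := by
  obtain ⟨e⟩ := nonempty_hom_of_cls_eq (cls_out _ (ptCls p))
  exact AlgSt.Points.sound ⟨repPt p (ptCls p), 𝟙 _, e.hom.1, trivial⟩

/-- The map on field-valued points induced by an isomorphism of presheaves of classes. -/
def ptMap (φ : IsoNat.FIso 𝒳 𝒴) (p : AlgSt.FPt 𝒳) : AlgSt.FPt 𝒴 :=
  repPt p (φ.toEquiv (base p) (ptCls p))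

theorem ptMap_hom (φ : IsoNat.FIso 𝒳 𝒴) {r p : AlgSt.FPt 𝒳} (a : r.obj ⟶ p.obj) :
    Nonempty ((ptMap φ r).obj ⟶ (ptMap φ p).obj) := by
  let g : base r ⟶ base p := eqToHom r.lies.symm ≫ 𝒳.p.map a ≫ eqToHom p.lies
  have hg : 𝒳.p.IsHomLift g a := IsHomLift.of_fac 𝒳.p g a r.lies p.lies rfl
  obtain ⟨y', y, b, -, h1, h2⟩ :=
    φ.natural g (Functor.Fiber.mk r.lies) (Functor.Fiber.mk p.lies) a hg
  obtain ⟨e1⟩ := nonempty_hom_of_cls_eq ((cls_out _ _).trans h1)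
  obtain ⟨e2⟩ := nonempty_hom_of_cls_eq ((cls_out _ _).trans h2)
  exact ⟨e1.hom.1 ≫ b ≫ e2.inv.1⟩

/-- The map on points induced by an isomorphism of presheaves of classes. -/
def pointsMap (φ : IsoNat.FIso 𝒳 𝒴) : AlgSt.Points 𝒳 → AlgSt.Points 𝒴 :=
  Quot.lift (fun p => AlgSt.Points.mk (ptMap φ p)) (fun p q ⟨r, a, b, _⟩ => by
    obtain ⟨a'⟩ := ptMap_hom φ a
    obtain ⟨b'⟩ := ptMap_hom φ b
    exact AlgSt.Points.sound ⟨ptMap φ r, a', b', trivial⟩)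

theorem pointsMap_surjective (φ : IsoNat.FIso 𝒳 𝒴) : Function.Surjective (pointsMap φ) := by
  intro z
  obtain ⟨q, rfl⟩ := AlgSt.Points.mk_surjective z
  refine ⟨AlgSt.Points.mk (repPt q ((φ.toEquiv (base q)).symm (ptCls q))), ?_⟩
  refine Eq.trans ?_ (mk_repPt_ptCls q)
  show AlgSt.Points.mk (ptMap φ _) = _
  have : φ.toEquiv (base q) (IsoNat.cls ((φ.toEquiv (base q)).symm (ptCls q)).out) = ptCls q := by
    rw [cls_out, Equiv.apply_symm_apply]
  exact congrArg (fun c => AlgSt.Points.mk (repPt q c)) this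

theorem pointsMap_comm {𝒳' 𝒴' : AlgSt.Cat S} {f : 𝒳 ⥤ᵇ 𝒴} {f' : 𝒳' ⥤ᵇ 𝒴'}
    (φ : IsoNat.FIsoSq f f') (x : AlgSt.Points 𝒳) :
    AlgSt.Points.map f' (pointsMap φ.src x) = pointsMap φ.tgt (AlgSt.Points.map f x) := by
  obtain ⟨p, rfl⟩ := AlgSt.Points.mk_surjective x
  show AlgSt.Points.mk ((ptMap φ.src p).map f') = AlgSt.Points.mk (ptMap φ.tgt (p.map f))
  rw [← mk_repPt_ptCls ((ptMap φ.src p).map f')]
  refine congrArg (fun c => AlgSt.Points.mk (repPt p c)) ?_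
  have h := φ.comm (base p) (ptCls p)
  refine Eq.trans ?_ h.symm
  exact congrArg (IsoNat.mapCls f' (base p)) (cls_out (base p) _)

theorem isSurjective_of_fIsoSq {𝒳' 𝒴' : AlgSt.Cat S} {f : 𝒳 ⥤ᵇ 𝒴} {f' : 𝒳' ⥤ᵇ 𝒴'}
    (φ : IsoNat.FIsoSq f f') (hf : AlgSt.IsSurjective f) : AlgSt.IsSurjective f' := fun z => by
  obtain ⟨y, rfl⟩ := pointsMap_surjective φ.tgt z
  obtain ⟨x, rfl⟩ := hf y
  exact ⟨pointsMap φ.src x, pointsMap_comm φ x⟩

end Groth.Agent.H14.ClsPoints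

end
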