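import Mathlib.CategoryTheory.FiberedCategory.BasedCategory
import Mathlib.CategoryTheory.FiberedCategory.Fibered
import Mathlib.CategoryTheory.FiberedCategory.Fiber
import Mathlib.CategoryTheory.Comma.Over.Basic
import Groth.Prelude.Def_FibCat2

/-!
Elementary operations in a category fibred in groupoids: lifts, factorisations, fibre isomorphisms,
and the functor out of a slice attached to an object.
-/

universe v₃ u₃ v₂ u₂ v u

open CategoryTheory

namespace Groth.Agent.H14.Fib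

variable {C : Type u} [Category.{v} C] {𝒳 : Type u₂} [Category.{v₂} 𝒳] {p : 𝒳 ⥤ C}

theorem cartesian (h : FibCat.IsFibGrpd p) {R S : C} (f : R ⟶ S) {a b : 𝒳} (φ : a ⟶ b)
    [p.IsHomLift f φ] : p.IsStronglyCartesian f φ := by
  subst_hom_lift p f φ
  exact h.isStronglyCartesian φ

/-- A lift of `f` with target `x`. -/
theorem exists_lift (h : FibCat.IsFibGrpd p) {T' T : C} (f : T' ⟶ T) (x : 𝒳) (hx : p.obj x = T) :
    ∃ (y : 𝒳) (φ : y ⟶ x), p.IsHomLift f φ := by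
  subst hx
  exact h.exists_lift f

theorem existsUnique_fac (h : FibCat.IsFibGrpd p) {R' R S : C} (g : R' ⟶ R) (f : R ⟶ S)
    {a' a b : 𝒳} (φ : a ⟶ b) [p.IsHomLift f φ] (ψ : a' ⟶ b) [p.IsHomLift (g ≫ f) ψ] :
    ∃! χ : a' ⟶ a, p.IsHomLift g χ ∧ χ ≫ φ = ψ :=
  have := cartesian h f φ
  Functor.IsStronglyCartesian.universal_property p f φ g (g ≫ f) rfl ψ

theorem existsUnique_fac' (h : FibCat.IsFibGrpd p) {R' R S : C} {g : R' ⟶ R} {f : R ⟶ S}
    {f' : R' ⟶ S} (w : g ≫ f = f') {a' a b : 𝒳} (φ : a ⟶ b) [p.IsHomLift f φ] (ψ : a' ⟶ b)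
    [p.IsHomLift f' ψ] : ∃! χ : a' ⟶ a, p.IsHomLift g χ ∧ χ ≫ φ = ψ := by
  subst w
  exact existsUnique_fac h g f φ ψ

theorem cancel (h : FibCat.IsFibGrpd p) {R' R S : C} (g : R' ⟶ R) (f : R ⟶ S)
    {a' a b : 𝒳} (φ : a ⟶ b) [p.IsHomLift f φ] (χ χ' : a' ⟶ a) [p.IsHomLift g χ]
    [p.IsHomLift g χ'] (e : χ ≫ φ = χ' ≫ φ) : χ = χ' := by
  obtain ⟨c, -, hc⟩ := existsUnique_fac h g f φ (χ ≫ φ)
  exact (hc χ ⟨inferInstance, rfl⟩).trans (hc χ' ⟨inferInstance, e.symm⟩).symm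

theorem isIso_of_lift_id (h : FibCat.IsFibGrpd p) {T : C} {a b : 𝒳} (φ : a ⟶ b)
    [p.IsHomLift (𝟙 T) φ] : IsIso φ := by
  have : p.IsHomLift (𝟙 T) (𝟙 b) := IsHomLift.id (IsHomLift.codomain_eq p (𝟙 T) φ)
  obtain ⟨χ, ⟨hχ, e⟩, -⟩ := existsUnique_fac' h (Category.id_comp (𝟙 T)) φ (𝟙 b)
  refine ⟨χ, ?_, e⟩
  have := hχ
  have : p.IsHomLift (𝟙 T) (𝟙 a) := IsHomLift.id (IsHomLift.domain_eq p (𝟙 T) φ)
  apply cancel h (𝟙 T) (𝟙 T) φ
  rw [Category.assoc, e, Category.comp_id, Category.id_comp]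

/-- A morphism over an identity as an isomorphism of the fibre category. -/
noncomputable def fiberIso (h : FibCat.IsFibGrpd p) {T : C} {a b : p.Fiber T} (φ : a.1 ⟶ b.1)
    [p.IsHomLift (𝟙 T) φ] : a ≅ b :=
  have := isIso_of_lift_id h φ (T := T)
  { hom := ⟨φ, inferInstance⟩
    inv := ⟨inv φ, IsHomLift.lift_id_inv_isIso p T φ⟩
    hom_inv_id := Subtype.ext (IsIso.hom_inv_id φ)
    inv_hom_id := Subtype.ext (IsIso.inv_hom_id φ) }

@[simp] theorem fiberIso_hom (h : FibCat.IsFibGrpd p) {T : C} {a b : p.Fiber T} (φ : a.1 ⟶ b.1)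
    [p.IsHomLift (𝟙 T) φ] : (fiberIso h φ).hom.1 = φ := rfl

/-- Two objects with morphisms over the same arrow to the same object are isomorphic in the fibre. -/
theorem nonempty_iso_of_lifts (h : FibCat.IsFibGrpd p) {T' T : C} (g : T' ⟶ T)
    {y y' : p.Fiber T'} {x : 𝒳} (a : y.1 ⟶ x) (a' : y'.1 ⟶ x) [p.IsHomLift g a]
    [p.IsHomLift g a'] : ∃ e : y ≅ y', e.hom.1 ≫ a' = a := by
  obtain ⟨χ, ⟨hχ, e⟩, -⟩ := existsUnique_fac' h (Category.id_comp g) a' a
  exact ⟨fiberIso h χ, e⟩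

theorem isHomLift_comp (p : 𝒳 ⥤ C) {R S T : C} {a b c : 𝒳} {f : R ⟶ S} {g : S ⟶ T} {k : R ⟶ T}
    (w : f ≫ g = k) (φ : a ⟶ b) (ψ : b ⟶ c) [p.IsHomLift f φ] [p.IsHomLift g ψ] :
    p.IsHomLift k (φ ≫ ψ) := by
  subst w; infer_instance

end Groth.Agent.H14.Fib

namespace Groth.Agent.H14.Fib

variable {C : Type u} [Category.{v} C] {𝒳 : BasedCategory.{v₂, u₂} C}

/-- The pullback object of `x` along the arrow of an object of the slice. -/
noncomputable def pull (h : FibCat.IsFibGrpd 𝒳.p) {U : C} (x : 𝒳.p.Fiber U) (a : Over U) : 𝒳.obj :=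
  (exists_lift h a.hom x.1 x.2).choose

noncomputable def pullHom (h : FibCat.IsFibGrpd 𝒳.p) {U : C} (x : 𝒳.p.Fiber U) (a : Over U) :
    pull h x a ⟶ x.1 :=
  (exists_lift h a.hom x.1 x.2).choose_spec.choose

theorem pullHom_lift (h : FibCat.IsFibGrpd 𝒳.p) {U : C} (x : 𝒳.p.Fiber U) (a : Over U) :
    𝒳.p.IsHomLift a.hom (pullHom h x a) :=
  (exists_lift h a.hom x.1 x.2).choose_spec.choose_spec

theorem pull_obj (h : FibCat.IsFibGrpd 𝒳.p) {U : C} (x : 𝒳.p.Fiber U) (a : Over U) :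
    𝒳.p.obj (pull h x a) = a.left :=
  have := pullHom_lift h x a
  IsHomLift.domain_eq 𝒳.p a.hom (pullHom h x a)

theorem pullMap_spec (h : FibCat.IsFibGrpd 𝒳.p) {U : C} (x : 𝒳.p.Fiber U) {a b : Over U}
    (f : a ⟶ b) : ∃! χ : pull h x a ⟶ pull h x b,
      𝒳.p.IsHomLift f.left χ ∧ χ ≫ pullHom h x b = pullHom h x a :=
  have := pullHom_lift h x a
  have := pullHom_lift h x b
  existsUnique_fac' h (Over.w f) (pullHom h x b) (pullHom h x a)

noncomputable def pullMap (h : FibCat.IsFibGrpd 𝒳.p) {U : C} (x : 𝒳.p.Fiber U) {a b : Over U}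
    (f : a ⟶ b) : pull h x a ⟶ pull h x b :=
  (pullMap_spec h x f).choose

theorem pullMap_lift (h : FibCat.IsFibGrpd 𝒳.p) {U : C} (x : 𝒳.p.Fiber U) {a b : Over U}
    (f : a ⟶ b) : 𝒳.p.IsHomLift f.left (pullMap h x f) :=
  (pullMap_spec h x f).choose_spec.1.1

theorem pullMap_fac (h : FibCat.IsFibGrpd 𝒳.p) {U : C} (x : 𝒳.p.Fiber U) {a b : Over U}
    (f : a ⟶ b) : pullMap h x f ≫ pullHom h x b = pullHom h x a :=
  (pullMap_spec h x f).choose_spec.1.2

/-- The functor `C/U ⟶ 𝒳` over `C` attached to an object over `U`. -/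
noncomputable def toFunctor (h : FibCat.IsFibGrpd 𝒳.p) {U : C} (x : 𝒳.p.Fiber U) :
    FibCat.overCat U ⥤ᵇ 𝒳 where
  toFunctor :=
    { obj := fun a => pull h x a
      map := fun f => pullMap h x f
      map_id := fun a => by
        refine (((pullMap_spec h x (𝟙 (a : Over U))).choose_spec.2) _ ⟨?_, ?_⟩).symm
        · exact IsHomLift.id (pull_obj h x a)
        · exact Category.id_comp _
      map_comp := fun {a b c} f g => by
        refine (((pullMap_spec h x ((f : (a : Over U) ⟶ b) ≫ g)).choose_spec.2) _ ⟨?_, ?_⟩).symm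
        · have := pullMap_lift h x f
          have := pullMap_lift h x g
          exact isHomLift_comp 𝒳.p (f := Over.Hom.left (f : (a : Over U) ⟶ b))
            (g := Over.Hom.left (g : (b : Over U) ⟶ c)) rfl _ _
        · exact (Category.assoc _ _ _).trans
            ((congrArg (pullMap h x f ≫ ·) (pullMap_fac h x g)).trans (pullMap_fac h x f)) }
  w := CategoryTheory.Functor.ext (fun a => pull_obj h x a) (fun a b f => by
    have := pullMap_lift h x f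
    exact IsHomLift.fac' 𝒳.p (Over.Hom.left (f : (a : Over U) ⟶ b)) (pullMap h x f))

theorem toFunctor_obj (h : FibCat.IsFibGrpd 𝒳.p) {U : C} (x : 𝒳.p.Fiber U) (a : Over U) :
    (toFunctor h x).obj a = pull h x a := rfl

/-- The value of `toFunctor h x` at the identity is isomorphic to `x` in the fibre. -/
noncomputable def toFunctorIso (h : FibCat.IsFibGrpd 𝒳.p) {U : C} (x : 𝒳.p.Fiber U) :
    Functor.Fiber.mk (pull_obj h x (Over.mk (𝟙 U))) ≅ x :=
  have : 𝒳.p.IsHomLift (𝟙 U) (pullHom h x (Over.mk (𝟙 U))) := pullHom_lift h x (Over.mk (𝟙 U))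
  @fiberIso _ _ _ _ _ h U (Functor.Fiber.mk (pull_obj h x (Over.mk (𝟙 U)))) x
    (pullHom h x (Over.mk (𝟙 U))) this

variable {𝒴 : BasedCategory.{v₃, u₃} C}

/-- The isomorphism of fibre objects induced by a functor over the base. -/
def mapFiber (F : 𝒳 ⥤ᵇ 𝒴) {T : C} (x : 𝒳.p.Fiber T) : 𝒴.p.Fiber T :=
  ⟨F.obj x.1, (F.w_obj x.1).trans x.2⟩

end Groth.Agent.H14.Fib
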