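import Groth.Prelude.Def_LiftSq
import Groth.Prelude.Def_FibCat2
import Groth.Agent.Lib.AlgStack.BasedBasic

/-!
Unique lifting against a fixed functor is stable under composition and base change.
-/

set_option autoImplicit false
set_option backward.isDefEq.respectTransparency false
set_option backward.isDefEq.respectTransparency.types false

universe v₆ u₆ v₅ u₅ v₄ u₄ v₃ u₃ v₂ u₂ v u

open CategoryTheory

namespace Groth.Agent.H14.LiftStab

open Groth.Agent.Lib.AlgStack.BasedBasic (isoWhiskerLeft isoWhiskerRight)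
open FibCat (fp fpFst fpSnd fpIso fpLift)

variable {C : Type u} [Category.{v} C]

theorem natTrans_ext {𝒳 : BasedCategory.{v₂, u₂} C} {𝒴 : BasedCategory.{v₃, u₃} C} {F G : 𝒳 ⥤ᵇ 𝒴}
    {α β : F ⟶ G} (h : ∀ a, α.toNatTrans.app a = β.toNatTrans.app a) : α = β :=
  BasedNatTrans.homCategory.ext α β (NatTrans.ext (funext h))

variable {𝒜 : BasedCategory.{v₂, u₂} C} {ℬ : BasedCategory.{v₃, u₃} C}
  {𝒳 : BasedCategory.{v₄, u₄} C} {𝒴 : BasedCategory.{v₅, u₅} C} {𝒵 : BasedCategory.{v₆, u₆} C}
  {j : 𝒜 ⥤ᵇ ℬ} {f : 𝒳 ⥤ᵇ 𝒴}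

/-- A morphism of dotted arrows, componentwise. -/
theorem lift_w {sq : LiftSq.Sq j f} (d : sq.Lift) (a : 𝒜.obj) :
    d.isoBot.hom.toNatTrans.app (j.obj a) ≫ f.map (d.isoTop.hom.toNatTrans.app a) =
      sq.iso.hom.toNatTrans.app a :=
  congrArg (fun t => t.toNatTrans.app a) d.w

theorem hom_top {sq : LiftSq.Sq j f} {d d' : sq.Lift} (θ : d ⟶ d') (a : 𝒜.obj) :
    θ.hom.toNatTrans.app (j.obj a) ≫ d'.isoTop.hom.toNatTrans.app a = d.isoTop.hom.toNatTrans.app a :=
  congrArg (fun t => t.toNatTrans.app a) θ.w_top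

theorem hom_bot {sq : LiftSq.Sq j f} {d d' : sq.Lift} (θ : d ⟶ d') (b : ℬ.obj) :
    d.isoBot.hom.toNatTrans.app b ≫ f.map (θ.hom.toNatTrans.app b) = d'.isoBot.hom.toNatTrans.app b :=
  congrArg (fun t => t.toNatTrans.app b) θ.w_bot

theorem liftsUniquely_comp {g : 𝒴 ⥤ᵇ 𝒵} (hf : LiftSq.LiftsUniquely j f)
    (hg : LiftSq.LiftsUniquely j g) : LiftSq.LiftsUniquely j (BasedFunctor.comp f g) := by
  intro sq
  let sq₁ : LiftSq.Sq j g := ⟨BasedFunctor.comp sq.top f, sq.bot, sq.iso⟩
  constructor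
  · obtain ⟨d₁⟩ := (hg sq₁).1
    let sq₂ : LiftSq.Sq j f := ⟨sq.top, d₁.fn, d₁.isoTop⟩
    obtain ⟨d₂⟩ := (hf sq₂).1
    refine ⟨⟨d₂.fn, d₂.isoTop, d₁.isoBot ≪≫ isoWhiskerRight d₂.isoBot g, natTrans_ext fun a => ?_⟩⟩
    have e1 := lift_w d₁ a
    have e2 : d₂.isoBot.hom.toNatTrans.app (j.obj a) ≫ f.map (d₂.isoTop.hom.toNatTrans.app a) =
        d₁.isoTop.hom.toNatTrans.app a := lift_w d₂ a
    change (d₁.isoBot.hom.toNatTrans.app (j.obj a) ≫ g.map (d₂.isoBot.hom.toNatTrans.app (j.obj a))) ≫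
      g.map (f.map (d₂.isoTop.hom.toNatTrans.app a)) = sq.iso.hom.toNatTrans.app a
    rw [Category.assoc, ← g.map_comp, e2]
    exact e1
  · intro d d'
    let push : sq.Lift → sq₁.Lift := fun c =>
      ⟨BasedFunctor.comp c.fn f, isoWhiskerRight c.isoTop f, c.isoBot, natTrans_ext fun a => lift_w c a⟩
    obtain ⟨hu⟩ := (hg sq₁).2 (push d) (push d')
    let θ₁ : push d ⟶ push d' := hu.default
    obtain ⟨hu'⟩ := (hg sq₁).2 (push d') (push d)
    obtain ⟨hd⟩ := (hg sq₁).2 (push d) (push d)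
    obtain ⟨hd'⟩ := (hg sq₁).2 (push d') (push d')
    let e : BasedFunctor.comp d.fn f ≅ BasedFunctor.comp d'.fn f :=
      { hom := θ₁.hom
        inv := hu'.default.hom
        hom_inv_id := congrArg LiftSq.Sq.Lift.Hom.hom
          ((hd.uniq (θ₁ ≫ hu'.default)).trans (hd.uniq (𝟙 _)).symm)
        inv_hom_id := congrArg LiftSq.Sq.Lift.Hom.hom
          ((hd'.uniq (hu'.default ≫ θ₁)).trans (hd'.uniq (𝟙 _)).symm) }
    let sq₂ : LiftSq.Sq j f := ⟨sq.top, BasedFunctor.comp d'.fn f, isoWhiskerRight d'.isoTop f⟩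
    let c' : sq₂.Lift := ⟨d'.fn, d'.isoTop, Iso.refl _, natTrans_ext fun a => Category.id_comp _⟩
    let c : sq₂.Lift := ⟨d.fn, d.isoTop, e.symm, natTrans_ext fun a => by
      change hu'.default.hom.toNatTrans.app (j.obj a) ≫ f.map (d.isoTop.hom.toNatTrans.app a) =
        f.map (d'.isoTop.hom.toNatTrans.app a)
      exact hom_top hu'.default a⟩
    obtain ⟨hc⟩ := (hf sq₂).2 c c'
    let θ : c ⟶ c' := hc.default
    have hθ : ∀ b, f.map (θ.hom.toNatTrans.app b) = θ₁.hom.toNatTrans.app b := fun b => by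
      have h : hu'.default.hom.toNatTrans.app b ≫ f.map (θ.hom.toNatTrans.app b) = 𝟙 _ := hom_bot θ b
      have h' : θ₁.hom.toNatTrans.app b ≫ hu'.default.hom.toNatTrans.app b = 𝟙 _ :=
        congrArg (fun t => t.toNatTrans.app b) e.hom_inv_id
      calc f.map (θ.hom.toNatTrans.app b)
          = (θ₁.hom.toNatTrans.app b ≫ hu'.default.hom.toNatTrans.app b) ≫
              f.map (θ.hom.toNatTrans.app b) := by rw [h']; exact (Category.id_comp _).symm
        _ = θ₁.hom.toNatTrans.app b := by rw [Category.assoc, h]; exact Category.comp_id _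
    refine ⟨⟨⟨⟨θ.hom, θ.w_top, natTrans_ext fun b => ?_⟩⟩, fun φ => ?_⟩⟩
    · change d.isoBot.hom.toNatTrans.app b ≫ g.map (f.map (θ.hom.toNatTrans.app b)) =
        d'.isoBot.hom.toNatTrans.app b
      rw [hθ b]
      exact hom_bot θ₁ b
    · apply LiftSq.Sq.Lift.hom_ext
      let φ₁ : push d ⟶ push d' := ⟨BasedCategory.whiskerRight φ.hom f, natTrans_ext fun a => by
        change f.map (φ.hom.toNatTrans.app (j.obj a)) ≫ f.map (d'.isoTop.hom.toNatTrans.app a) =
          f.map (d.isoTop.hom.toNatTrans.app a)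
        rw [← f.map_comp]
        exact congrArg f.map (hom_top φ a), φ.w_bot⟩
      have h₁ : φ₁ = θ₁ := hu.uniq φ₁
      let φ₂ : c ⟶ c' := ⟨φ.hom, φ.w_top, natTrans_ext fun b => by
        change hu'.default.hom.toNatTrans.app b ≫ f.map (φ.hom.toNatTrans.app b) = 𝟙 _
        rw [show f.map (φ.hom.toNatTrans.app b) = θ₁.hom.toNatTrans.app b from
          congrArg (fun t : push d ⟶ push d' => t.hom.toNatTrans.app b) h₁]
        exact congrArg (fun t => t.toNatTrans.app b) e.inv_hom_id⟩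
      exact congrArg (fun t : c ⟶ c' => t.hom) (hc.uniq φ₂)

variable {F : 𝒵 ⥤ᵇ 𝒴}

/-- A 2-morphism into a 2-fibre product from its two components. -/
def fpHom {𝒲 : BasedCategory.{v₂, u₂} C} {a b : 𝒲 ⥤ᵇ fp F f}
    (α : BasedFunctor.comp a (fpFst F f) ⟶ BasedFunctor.comp b (fpFst F f))
    (β : BasedFunctor.comp a (fpSnd F f) ⟶ BasedFunctor.comp b (fpSnd F f))
    (h : ∀ w, F.map (α.toNatTrans.app w) ≫ (b.obj w).obj.iso.hom =
      (a.obj w).obj.iso.hom ≫ f.map (β.toNatTrans.app w)) : a ⟶ b where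
  toNatTrans :=
    { app := fun w => ObjectProperty.homMk
        { fst := α.toNatTrans.app w, snd := β.toNatTrans.app w, w := h w }
      naturality := fun w w' g => by
        apply ObjectProperty.hom_ext
        exact Limits.CategoricalPullback.hom_ext (α.toNatTrans.naturality g) (β.toNatTrans.naturality g) }
  isHomLift' := fun w => by
    have := BasedNatTrans.isHomLift' α w
    exact IsHomLift.of_fac' _ _ _ (a.w_obj w) (b.w_obj w)
      (IsHomLift.fac' 𝒵.p (𝟙 (𝒲.p.obj w)) (α.toNatTrans.app w))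

theorem fp_hom_ext {x y : (fp F f).obj} {m n : x ⟶ y} (h₁ : m.hom.fst = n.hom.fst)
    (h₂ : m.hom.snd = n.hom.snd) : m = n :=
  ObjectProperty.hom_ext _ (Limits.CategoricalPullback.hom_ext h₁ h₂)

theorem liftsUniquely_fpFst (hf : LiftSq.LiftsUniquely j f) :
    LiftSq.LiftsUniquely j (fpFst F f) := by
  intro sq
  let sq' : LiftSq.Sq j f :=
    ⟨BasedFunctor.comp sq.top (fpSnd F f), BasedFunctor.comp sq.bot F,
      isoWhiskerRight sq.iso F ≪≫ isoWhiskerLeft sq.top (fpIso F f)⟩
  constructor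
  · obtain ⟨d⟩ := (hf sq').1
    let fn := fpLift sq.bot d.fn d.isoBot
    have key : ∀ a, F.map (sq.iso.hom.toNatTrans.app a) ≫ (sq.top.obj a).obj.iso.hom =
        d.isoBot.hom.toNatTrans.app (j.obj a) ≫ f.map (d.isoTop.hom.toNatTrans.app a) := fun a =>
      (lift_w d a).symm
    let top : BasedFunctor.comp j fn ≅ sq.top :=
      { hom := fpHom (a := BasedFunctor.comp j fn) (b := sq.top) sq.iso.hom d.isoTop.hom key
        inv := fpHom (a := sq.top) (b := BasedFunctor.comp j fn) sq.iso.inv d.isoTop.inv fun a => by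
          have h1 : sq.iso.inv.toNatTrans.app a ≫ sq.iso.hom.toNatTrans.app a = 𝟙 _ :=
            congrArg (fun t => t.toNatTrans.app a) sq.iso.inv_hom_id
          have h2 : d.isoTop.hom.toNatTrans.app a ≫ d.isoTop.inv.toNatTrans.app a = 𝟙 _ :=
            congrArg (fun t => t.toNatTrans.app a) d.isoTop.hom_inv_id
          calc F.map (sq.iso.inv.toNatTrans.app a) ≫ d.isoBot.hom.toNatTrans.app (j.obj a)
              = F.map (sq.iso.inv.toNatTrans.app a) ≫ (d.isoBot.hom.toNatTrans.app (j.obj a) ≫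
                  f.map (d.isoTop.hom.toNatTrans.app a)) ≫ f.map (d.isoTop.inv.toNatTrans.app a) := by
                rw [Category.assoc, ← f.map_comp, h2]
                refine congrArg _ (Eq.trans ?_ (congrArg _ (f.map_id _).symm))
                exact (Category.comp_id _).symm
            _ = (sq.top.obj a).obj.iso.hom ≫ f.map (d.isoTop.inv.toNatTrans.app a) := by
                rw [← key a, Category.assoc, ← Category.assoc, ← F.map_comp, h1, F.map_id]
                exact Category.id_comp _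
        hom_inv_id := natTrans_ext fun a => fp_hom_ext
          (congrArg (fun t => t.toNatTrans.app a) sq.iso.hom_inv_id)
          (congrArg (fun t => t.toNatTrans.app a) d.isoTop.hom_inv_id)
        inv_hom_id := natTrans_ext fun a => fp_hom_ext
          (congrArg (fun t => t.toNatTrans.app a) sq.iso.inv_hom_id)
          (congrArg (fun t => t.toNatTrans.app a) d.isoTop.inv_hom_id) }
    exact ⟨⟨fn, top, Iso.refl _, natTrans_ext fun a => Category.id_comp _⟩⟩
  · intro d d'
    let push : sq.Lift → sq'.Lift := fun c =>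
      ⟨BasedFunctor.comp c.fn (fpSnd F f), isoWhiskerRight c.isoTop (fpSnd F f),
        isoWhiskerRight c.isoBot F ≪≫ isoWhiskerLeft c.fn (fpIso F f), natTrans_ext fun a => by
          have e : c.isoBot.hom.toNatTrans.app (j.obj a) ≫ (c.isoTop.hom.toNatTrans.app a).hom.fst =
              sq.iso.hom.toNatTrans.app a := lift_w c a
          change (F.map (c.isoBot.hom.toNatTrans.app (j.obj a)) ≫ (c.fn.obj (j.obj a)).obj.iso.hom) ≫
              f.map (c.isoTop.hom.toNatTrans.app a).hom.snd =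
            F.map (sq.iso.hom.toNatTrans.app a) ≫ (sq.top.obj a).obj.iso.hom
          rw [← e, F.map_comp, Category.assoc, Category.assoc]
          exact congrArg _ (c.isoTop.hom.toNatTrans.app a).hom.w.symm⟩
    obtain ⟨hu⟩ := (hf sq').2 (push d) (push d')
    let θ := (hu.default : push d ⟶ push d')
    have hb : ∀ b, d.isoBot.inv.toNatTrans.app b ≫ d.isoBot.hom.toNatTrans.app b = 𝟙 _ := fun b =>
      congrArg (fun t => t.toNatTrans.app b) d.isoBot.inv_hom_id
    have hb' : ∀ b, d.isoBot.hom.toNatTrans.app b ≫ d.isoBot.inv.toNatTrans.app b = 𝟙 _ := fun b =>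
      congrArg (fun t => t.toNatTrans.app b) d.isoBot.hom_inv_id
    let α : BasedFunctor.comp d.fn (fpFst F f) ⟶ BasedFunctor.comp d'.fn (fpFst F f) :=
      d.isoBot.inv ≫ d'.isoBot.hom
    let m : d.fn ⟶ d'.fn := fpHom α θ.hom fun b => by
      have e : (F.map (d.isoBot.hom.toNatTrans.app b) ≫ (d.fn.obj b).obj.iso.hom) ≫
          f.map (θ.hom.toNatTrans.app b) =
          F.map (d'.isoBot.hom.toNatTrans.app b) ≫ (d'.fn.obj b).obj.iso.hom := hom_bot θ b
      calc F.map (d.isoBot.inv.toNatTrans.app b ≫ d'.isoBot.hom.toNatTrans.app b) ≫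
              (d'.fn.obj b).obj.iso.hom
          = F.map (d.isoBot.inv.toNatTrans.app b) ≫ (F.map (d.isoBot.hom.toNatTrans.app b) ≫
              (d.fn.obj b).obj.iso.hom) ≫ f.map (θ.hom.toNatTrans.app b) := by
            rw [e, F.map_comp, Category.assoc]
        _ = _ := by
            rw [Category.assoc, ← Category.assoc, ← F.map_comp, hb b, F.map_id]
            exact Category.id_comp _
    refine ⟨⟨⟨⟨m, natTrans_ext fun a => fp_hom_ext ?_ (hom_top θ a), natTrans_ext fun b => ?_⟩⟩,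
      fun φ => ?_⟩⟩
    · change (d.isoBot.inv.toNatTrans.app (j.obj a) ≫ d'.isoBot.hom.toNatTrans.app (j.obj a)) ≫
          (d'.isoTop.hom.toNatTrans.app a).hom.fst = (d.isoTop.hom.toNatTrans.app a).hom.fst
      have e : d.isoBot.hom.toNatTrans.app (j.obj a) ≫ (d.isoTop.hom.toNatTrans.app a).hom.fst =
          d'.isoBot.hom.toNatTrans.app (j.obj a) ≫ (d'.isoTop.hom.toNatTrans.app a).hom.fst :=
        (lift_w d a).trans (lift_w d' a).symm
      rw [Category.assoc, ← e, ← Category.assoc, hb]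
      exact Category.id_comp _
    · change d.isoBot.hom.toNatTrans.app b ≫ d.isoBot.inv.toNatTrans.app b ≫
          d'.isoBot.hom.toNatTrans.app b = d'.isoBot.hom.toNatTrans.app b
      rw [← Category.assoc, hb']
      exact Category.id_comp _
    · apply LiftSq.Sq.Lift.hom_ext
      let φ' : push d ⟶ push d' := ⟨BasedCategory.whiskerRight φ.hom (fpSnd F f),
        natTrans_ext fun a => congrArg (fun t => t.hom.snd) (hom_top φ a), natTrans_ext fun b => by
          have e : d.isoBot.hom.toNatTrans.app b ≫ (φ.hom.toNatTrans.app b).hom.fst =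
              d'.isoBot.hom.toNatTrans.app b := hom_bot φ b
          change (F.map (d.isoBot.hom.toNatTrans.app b) ≫ (d.fn.obj b).obj.iso.hom) ≫
              f.map (φ.hom.toNatTrans.app b).hom.snd =
            F.map (d'.isoBot.hom.toNatTrans.app b) ≫ (d'.fn.obj b).obj.iso.hom
          rw [← e, F.map_comp, Category.assoc, Category.assoc]
          exact congrArg _ (φ.hom.toNatTrans.app b).hom.w.symm⟩
      refine natTrans_ext fun b => fp_hom_ext ?_
        (congrArg (fun t : push d ⟶ push d' => t.hom.toNatTrans.app b) (hu.uniq φ'))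
      change (φ.hom.toNatTrans.app b).hom.fst =
        d.isoBot.inv.toNatTrans.app b ≫ d'.isoBot.hom.toNatTrans.app b
      have e : d.isoBot.hom.toNatTrans.app b ≫ (φ.hom.toNatTrans.app b).hom.fst =
          d'.isoBot.hom.toNatTrans.app b := hom_bot φ b
      rw [← e, ← Category.assoc, hb]
      exact (Category.id_comp _).symm

end Groth.Agent.H14.LiftStab
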