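import Groth.Agent.H14.Fib
import Groth.Agent.Lib.AlgSpace.Basic
import Groth.Prelude.Def_AlgSt3

universe u

open CategoryTheory AlgebraicGeometry

namespace Groth.Agent.H14.OpenImmFull

variable {S : Scheme.{u}}

theorem isHomLift_fst {𝒳 𝒴 𝒵 : AlgSt.Cat S} {f : 𝒳 ⥤ᵇ 𝒵} {g : 𝒴 ⥤ᵇ 𝒵} {T T' : Over S} (k : T' ⟶ T)
    {z z' : (FibCat.fp f g).obj} (φ : z ⟶ z') [(FibCat.fp f g).p.IsHomLift k φ] :
    𝒳.p.IsHomLift k ((FibCat.fpFst f g).map φ) :=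
  inferInstance

theorem secHom_eq {U : Over S} {F : AlgSp.Sp S} (Φ : AlgSt.ofSp F ⥤ᵇ FibCat.overCat U)
    (a : (AlgSt.ofSp F).obj) {T : Over S} (g : Over U) (hT : g.left = T) (ha : a.base = T)
    (c : Φ.obj a ⟶ g) [(FibCat.overCat U).p.IsHomLift (𝟙 T) c] :
    AlgSt.secHom Φ a = eqToHom (ha.trans hT.symm) ≫ g.hom := by
  have h1 := IsHomLift.fac' (FibCat.overCat U).p (𝟙 T) c
  have h2 : Over.Hom.left (c : (Φ.obj a : Over U) ⟶ g) ≫ g.hom = (Φ.obj a : Over U).hom := Over.w c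
  have aux : ∀ {A B D E : Over S} (p1 : A = B) (m : B ⟶ D) (k : D ⟶ E) (p2 : B = D) (p3 : A = D),
      m = eqToHom p2 → eqToHom p1 ≫ m ≫ k = eqToHom p3 ≫ k := by
    intros A B D E p1 m k p2 p3 hm; subst p1; subst p2; subst hm; simp
  have hl : (Φ.obj a : Over U).left = a.base := Φ.w_obj a
  have hc : Over.Hom.left (c : (Φ.obj a : Over U) ⟶ g) = eqToHom (hl.trans (ha.trans hT.symm)) := by
    refine h1.trans ?_
    rw [Category.id_comp]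
    exact eqToHom_trans _ _
  exact (congrArg (eqToHom hl.symm ≫ ·) h2.symm).trans (aux hl.symm _ g.hom _ _ hc)

theorem comp_eq_id_lift {𝒳 : AlgSt.Cat S} {T : Over S} {a b c : 𝒳.obj} (φ : a ⟶ b) (ψ : b ⟶ c)
    [𝒳.p.IsHomLift (𝟙 T) φ] [𝒳.p.IsHomLift (𝟙 T) ψ] : 𝒳.p.IsHomLift (𝟙 T) (φ ≫ ψ) :=
  inferInstance

set_option maxHeartbeats 400000 in
/-- A functor all of whose base changes to schemes are monomorphisms of sheaves is full on fibres. -/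
theorem exists_lift_hom {𝒴 𝒴' : AlgSt.Cat S} (h𝒴 : FibCat.IsFibGrpd 𝒴.p) (i : 𝒴' ⥤ᵇ 𝒴)
    (hi : AlgSt.RepByAlgSpWith (MorphismProperty.monomorphisms (AlgSp.Sp S)) i)
    {T : Over S} (y₁ y₂ : 𝒴'.p.Fiber T) (γ : i.obj y₁.1 ⟶ i.obj y₂.1)
    [hγ : 𝒴.p.IsHomLift (𝟙 T) γ] :
    ∃ b : y₁.1 ⟶ y₂.1, 𝒴'.p.IsHomLift (𝟙 T) b ∧ i.map b = γ := by
  let x : 𝒴.p.Fiber T := Fib.mapFiber i y₁
  let y := Fib.toFunctor h𝒴 x
  obtain ⟨F, e, ⟨G, ⟨η⟩, ⟨ε⟩⟩, hmono⟩ := hi T y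
  let ι := Fib.toFunctorIso h𝒴 x
  let gT : (FibCat.overCat T).obj := Over.mk (𝟙 T)
  have l1 : 𝒴.p.IsHomLift (𝟙 T) ι.hom.1 := ι.hom.2
  let w₁ : y.obj gT ⟶ i.obj y₁.1 := ι.hom.1
  let w₂ : y.obj gT ⟶ i.obj y₂.1 := ι.hom.1 ≫ γ
  have k1 : 𝒴.p.IsHomLift (𝟙 T) w₁ := ι.hom.2
  have k2 : 𝒴.p.IsHomLift (𝟙 T) w₂ := @comp_eq_id_lift _ 𝒴 T _ _ _ ι.hom.1 γ l1 hγ
  have i1 : IsIso w₁ := Fib.isIso_of_lift_id h𝒴 (T := T) w₁
  have i2 : IsIso w₂ := Fib.isIso_of_lift_id h𝒴 (T := T) w₂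
  let z₁ : (FibCat.fp y i).obj := ⟨⟨gT, y₁.1, asIso w₁⟩, k1⟩
  let z₂ : (FibCat.fp y i).obj := ⟨⟨gT, y₂.1, asIso w₂⟩, k2⟩
  have hb : ∀ z : (FibCat.fp y i).obj, (G.obj z).base = (FibCat.fp y i).p.obj z := G.w_obj
  let Φ := BasedFunctor.comp e (FibCat.fpFst y i)
  have sec : ∀ z : (FibCat.fp y i).obj, z.obj.fst = gT → AlgSt.secHom Φ (G.obj z) =
      eqToHom (hb z) ≫ z.obj.fst.hom := fun z hz => by
    have hl : (FibCat.fp y i).p.IsHomLift (𝟙 ((FibCat.fp y i).p.obj z)) (ε.hom.toNatTrans.app z) :=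
      ε.hom.isHomLift' z
    exact @secHom_eq S T F.obj Φ (G.obj z) ((FibCat.fp y i).p.obj z) z.obj.fst rfl (hb z)
      ((FibCat.fpFst y i).map (ε.hom.toNatTrans.app z))
      (BasedFunctor.preserves_isHomLift (FibCat.fpFst y i) _ (ε.hom.toNatTrans.app z))
  have eqG : G.obj z₁ = G.obj z₂ := by
    suffices key : ∀ (a₁ a₂ : (AlgSt.ofSp F.obj).obj) (b1 : a₁.base = T) (b2 : a₂.base = T),
        AlgSt.secHom Φ a₁ = eqToHom b1 → AlgSt.secHom Φ a₂ = eqToHom b2 → a₁ = a₂ from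
      key _ _ (hb z₁) (hb z₂) ((sec z₁ rfl).trans (Category.comp_id _))
        ((sec z₂ rfl).trans (Category.comp_id _))
    rintro ⟨B₁, x₁⟩ ⟨B₂, x₂⟩ (rfl : B₁ = T) (rfl : B₂ = B₁) s1 s2
    congr 1
    have : Mono (AlgSt.spMapOfOver Φ) := hmono
    apply (Groth.Agent.Lib.AlgSpace.secEquiv _).symm.injective
    rw [← cancel_mono (AlgSt.spMapOfOver Φ), Groth.Agent.Lib.AlgSpace.secEquiv_symm_comp,
      Groth.Agent.Lib.AlgSpace.secEquiv_symm_comp]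
    exact congrArg _ (congrArg ULift.up (s1.trans s2.symm))
  let α : z₁ ≅ z₂ :=
    ((BasedNatTrans.forgetful _ _).mapIso ε).symm.app z₁ ≪≫ eqToIso (congrArg e.obj eqG) ≪≫
      ((BasedNatTrans.forgetful _ _).mapIso ε).app z₂
  have hα : (FibCat.fp y i).p.IsHomLift (𝟙 T) α.hom := by
    have a1 : (FibCat.fp y i).p.IsHomLift (𝟙 T) (ε.inv.toNatTrans.app z₁) := ε.inv.isHomLift' z₁
    have a2 : (FibCat.fp y i).p.IsHomLift (𝟙 T) (ε.hom.toNatTrans.app z₂) := ε.hom.isHomLift' z₂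
    have a3 : (FibCat.fp y i).p.IsHomLift (𝟙 T) (eqToHom (congrArg e.obj eqG)) :=
      IsHomLift.eqToHom_domain_lift_id _ ((e.w_obj _).trans (hb z₁))
    have := @IsHomLift.comp_of_lift_id _ _ _ _ (FibCat.fp y i).p T _ _ _ _ _ a3 a2
    exact @IsHomLift.comp_of_lift_id _ _ _ _ (FibCat.fp y i).p T _ _ _ _ _ a1 this
  have hfst : (FibCat.overCat T).p.IsHomLift (𝟙 T) ((FibCat.fpFst y i).map α.hom) :=
    inferInstance
  have hid : α.hom.hom.fst = 𝟙 gT := by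
    apply Over.OverMorphism.ext
    have := IsHomLift.fac' (FibCat.overCat T).p (𝟙 T) ((FibCat.fpFst y i).map α.hom)
    refine this.trans ?_
    rw [Category.id_comp]
    exact (eqToHom_trans _ _).trans rfl
  refine ⟨α.hom.hom.snd, ?_, ?_⟩
  · have : (FibCat.fp y i).p.map α.hom = 𝟙 T := congrArg (fun k => Over.Hom.left k) hid
    exact this ▸ FibCat.fp_isHomLift_snd y i α.hom
  · have w := α.hom.hom.w
    rw [hid] at w
    change y.map (𝟙 gT) ≫ (ι.hom.1 ≫ γ) = ι.hom.1 ≫ i.map α.hom.hom.snd at w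
    rw [y.map_id, Category.id_comp] at w
    exact ((cancel_epi w₁).1 w).symm

end Groth.Agent.H14.OpenImmFull
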