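import Groth.Prelude.Def_FibCat2

universe v u

open CategoryTheory CategoryTheory.Limits

noncomputable section

namespace Groth.Agent.H14.Paste

variable {B A' B' A'' B'' : Type u} [Category.{v} B] [Category.{v} A'] [Category.{v} B']
  [Category.{v} A''] [Category.{v} B'']
  (r : B ⥤ B') (t' : A' ⥤ B') (l' : A' ⥤ A'') (r' : B' ⥤ B'') (t'' : A'' ⥤ B'')
  (e : t' ⋙ r' ≅ l' ⋙ t'')

/-- The comparison from the upper fibre product to the outer one. -/
def K : CategoricalPullback r t' ⥤ CategoricalPullback (r ⋙ r') t'' where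
  obj x := ⟨x.fst, l'.obj x.snd, r'.mapIso x.iso ≪≫ e.app x.snd⟩
  map {x y} φ :=
    { fst := φ.fst
      snd := l'.map φ.snd
      w := by
        show r'.map (r.map φ.fst) ≫ r'.map y.iso.hom ≫ e.hom.app y.snd = (r'.map x.iso.hom ≫ e.hom.app x.snd) ≫ t''.map (l'.map φ.snd)
        have n : r'.map (t'.map φ.snd) ≫ e.hom.app y.snd =
            e.hom.app x.snd ≫ t''.map (l'.map φ.snd) := e.hom.naturality φ.snd
        rw [← r'.map_comp_assoc, φ.w, r'.map_comp, Category.assoc, Category.assoc, n] }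
  map_id x := by ext <;> simp
  map_comp f g := by ext <;> simp

theorem K_isEquivalence (h : FibCat.IsTwoCart t' l' r' t'' e) :
    (K r t' l' r' t'' e).IsEquivalence := by
  have := h
  unfold FibCat.IsTwoCart at this
  let Φ := (CategoricalPullback.CatCommSqOver.toFunctorToCategoricalPullback r' t'' A').obj ⟨t', l', e⟩
  have : Φ.IsEquivalence := h
  have hf : (K r t' l' r' t'' e).Faithful := ⟨fun {x y} φ ψ hφ => by
    have h1 : φ.fst = ψ.fst :=
      congrArg ((CategoricalPullback.π₁ (r ⋙ r') t'').map ·) hφ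
    have h2 : l'.map φ.snd = l'.map ψ.snd :=
      congrArg ((CategoricalPullback.π₂ (r ⋙ r') t'').map ·) hφ
    have h3 : t'.map φ.snd = t'.map ψ.snd := by
      rw [← cancel_epi x.iso.hom, ← φ.w, ← ψ.w, h1]
    refine CategoricalPullback.hom_ext h1 (Φ.map_injective ?_)
    exact CategoricalPullback.hom_ext h3 h2⟩
  have hF : (K r t' l' r' t'' e).Full := ⟨fun {x y} k => by
    let k₁ : x.fst ⟶ y.fst := k.fst
    let k₂ : l'.obj x.snd ⟶ l'.obj y.snd := k.snd
    have w : r'.map (r.map k₁) ≫ r'.map y.iso.hom ≫ e.hom.app y.snd =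
        (r'.map x.iso.hom ≫ e.hom.app x.snd) ≫ t''.map k₂ := k.w
    have w' : r'.map (x.iso.inv ≫ r.map k₁ ≫ y.iso.hom) ≫ e.hom.app y.snd =
        e.hom.app x.snd ≫ t''.map k₂ := by
      simp only [Functor.map_comp, Category.assoc] at w ⊢
      rw [w, ← r'.map_comp_assoc, Iso.inv_hom_id, r'.map_id, Category.id_comp]
    let m : Φ.obj x.snd ⟶ Φ.obj y.snd :=
      { fst := x.iso.inv ≫ r.map k₁ ≫ y.iso.hom
        snd := k₂
        w := w' }
    obtain ⟨b, hb⟩ := Φ.map_surjective m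
    have hb1 : t'.map b = x.iso.inv ≫ r.map k₁ ≫ y.iso.hom :=
      congrArg ((CategoricalPullback.π₁ r' t'').map ·) hb
    have hb2 : l'.map b = k₂ := congrArg ((CategoricalPullback.π₂ r' t'').map ·) hb
    refine ⟨⟨k₁, b, ?_⟩, CategoricalPullback.hom_ext rfl hb2⟩
    rw [hb1, Iso.hom_inv_id_assoc]⟩
  have hE : (K r t' l' r' t'' e).EssSurj := ⟨fun z => by
    let w : CategoricalPullback r' t'' := ⟨r.obj z.fst, z.snd, z.iso⟩
    let a := Φ.objPreimage w
    let i : Φ.obj a ≅ w := Φ.objObjPreimageIso w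
    let i₁ : t'.obj a ≅ r.obj z.fst := (CategoricalPullback.π₁ r' t'').mapIso i
    let i₂ : l'.obj a ≅ z.snd := (CategoricalPullback.π₂ r' t'').mapIso i
    let zh : r'.obj (r.obj z.fst) ⟶ t''.obj z.snd := z.iso.hom
    have wi : r'.map i₁.hom ≫ zh = e.hom.app a ≫ t''.map i₂.hom := i.hom.w
    refine ⟨⟨z.fst, a, i₁.symm⟩, ⟨CategoricalPullback.mkIso (Iso.refl _) i₂ ?_⟩⟩
    show r'.map (r.map (𝟙 z.fst)) ≫ zh = (r'.map i₁.inv ≫ e.hom.app a) ≫ t''.map i₂.hom
    simp only [CategoryTheory.Functor.map_id, Category.assoc, Category.id_comp]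
    rw [← wi, ← r'.map_comp_assoc, Iso.inv_hom_id, r'.map_id, Category.id_comp]⟩
  exact {}

theorem paste {A : Type u} [Category.{v} A] (t : A ⥤ B) (l : A ⥤ A') (e₁ : t ⋙ r ≅ l ⋙ t')
    (h₂ : FibCat.IsTwoCart t' l' r' t'' e) :
    FibCat.IsTwoCart t l r t' e₁ ↔
      FibCat.IsTwoCart t (l ⋙ l') (r ⋙ r') t''
        ((Functor.associator t r r').symm ≪≫ Functor.isoWhiskerRight e₁ r' ≪≫ Functor.associator l t' r' ≪≫
          Functor.isoWhiskerLeft l e ≪≫ (Functor.associator l l' t'').symm) := by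
  unfold FibCat.IsTwoCart
  have := K_isEquivalence r t' l' r' t'' e h₂
  let L₁ := (CategoricalPullback.CatCommSqOver.toFunctorToCategoricalPullback r t' A).obj ⟨t, l, e₁⟩
  have key : L₁ ⋙ K r t' l' r' t'' e ≅
      (CategoricalPullback.CatCommSqOver.toFunctorToCategoricalPullback (r ⋙ r') t'' A).obj
        ⟨t, l ⋙ l', ((Functor.associator t r r').symm ≪≫ Functor.isoWhiskerRight e₁ r' ≪≫
          Functor.associator l t' r' ≪≫ Functor.isoWhiskerLeft l e ≪≫ (Functor.associator l l' t'').symm)⟩ :=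
    NatIso.ofComponents (fun a => CategoricalPullback.mkIso (Iso.refl _) (Iso.refl _) (by
      simp [L₁, K, CategoricalPullback.CatCommSqOver.toFunctorToCategoricalPullback]))
      (fun f => by ext <;> simp [L₁, K, CategoricalPullback.CatCommSqOver.toFunctorToCategoricalPullback])
  constructor
  · intro h
    have : L₁.IsEquivalence := h
    exact Functor.isEquivalence_of_iso key
  · intro h
    have : (L₁ ⋙ K r t' l' r' t'' e).IsEquivalence := by
      exact @Functor.isEquivalence_of_iso _ _ _ _ _ _ key.symm h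
    exact Functor.isEquivalence_of_comp_right L₁ (K r t' l' r' t'' e)

end Groth.Agent.H14.Paste

end
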